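import Groth.Agent.Jac4.RatPoint
import Groth.Agent.GrpSchLib.SepPoints
import Groth.Agent.CurveCohLib.Hopf

/-!
Values of functions at rational points.
-/

set_option linter.style.haveILetI false
set_option linter.unusedSectionVars false
set_option backward.isDefEq.respectTransparency false
set_option backward.isDefEq.respectTransparency.types false
set_option synthInstance.maxHeartbeats 100000
set_option maxHeartbeats 1000000

universe u

open CategoryTheory CategoryTheory.Limits AlgebraicGeometry TopologicalSpace Opposite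

namespace Groth.Agent.Jac4

variable {X : Scheme.{u}} {k : Type u} [Field k]

theorem top_le_preimage {V : X.Opens} {P : Spec (CommRingCat.of k) ⟶ X} (hP : pt P ∈ V) :
    (⊤ : (Spec (CommRingCat.of k)).Opens) ≤ P ⁻¹ᵁ V := fun x _ => by
  haveI : Subsingleton ↥(Spec (CommRingCat.of k)) := inferInstanceAs (Subsingleton (PrimeSpectrum k))
  show P.base x ∈ V
  rw [Subsingleton.elim x (IsLocalRing.closedPoint k)]
  exact hP

/-- The value of a function at a rational point. -/
noncomputable def ev {V : X.Opens} (P : Spec (CommRingCat.of k) ⟶ X) (hP : pt P ∈ V) : Γ(X, V) →+* k :=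
  (Scheme.ΓSpecIso (CommRingCat.of k)).hom.hom.comp (P.appLE V ⊤ (top_le_preimage hP)).hom

theorem ev_ne_zero_iff {V : X.Opens} (P : Spec (CommRingCat.of k) ⟶ X) (hP : pt P ∈ V) (f : Γ(X, V)) :
    ev P hP f ≠ 0 ↔ pt P ∈ X.basicOpen f := by
  have h1 : (Spec (CommRingCat.of k)).basicOpen (P.appLE V ⊤ (top_le_preimage hP) f) =
      P ⁻¹ᵁ X.basicOpen f := by
    rw [Scheme.Hom.appLE, ConcreteCategory.comp_apply, Scheme.basicOpen_res, Scheme.preimage_basicOpen,
      top_inf_eq]
  rw [basicOpen_eq_of_affine'] at h1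
  constructor
  · intro hne
    have : (IsLocalRing.closedPoint k : Spec (CommRingCat.of k)) ∈ P ⁻¹ᵁ X.basicOpen f := by
      rw [← h1]
      exact fun hm => hne ((IsLocalRing.maximalIdeal_eq_bot (R := k) ▸ hm :
        _ ∈ (⊥ : Ideal k)))
    exact this
  · intro hmem h0
    have : (IsLocalRing.closedPoint k : Spec (CommRingCat.of k)) ∈ P ⁻¹ᵁ X.basicOpen f := hmem
    rw [← h1] at this
    refine this ?_
    rw [show (Scheme.ΓSpecIso (CommRingCat.of k)).hom (P.appLE V ⊤ (top_le_preimage hP) f) = 0 from h0]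
    exact Ideal.zero_mem _

theorem ev_comp {Y : Scheme.{u}} {V : X.Opens} {W : Y.Opens} (π : Y ⟶ X) (hW : W ≤ π ⁻¹ᵁ V)
    (x : Spec (CommRingCat.of k) ⟶ Y) (hx : pt x ∈ W) (f : Γ(X, V)) :
    ev (x ≫ π) (show pt (x ≫ π) ∈ V from hW hx) f = ev x hx (π.appLE V W hW f) := by
  show (Scheme.ΓSpecIso (CommRingCat.of k)).hom _ = (Scheme.ΓSpecIso (CommRingCat.of k)).hom _
  refine congrArg _ ?_
  rw [← ConcreteCategory.comp_apply, Scheme.Hom.appLE_comp_appLE]

variable [X.Over (Spec (CommRingCat.of k))]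

/-- The constant functions. -/
noncomputable def cst (V : X.Opens) : k →+* Γ(X, V) :=
  (X.presheaf.map (homOfLE (le_top : V ≤ ⊤)).op).hom.comp (Coh.toGlobal (X ↘ Spec (CommRingCat.of k)))

theorem germ_cst (V : X.Opens) {x : X} (hx : x ∈ V) (c : k) :
    X.presheaf.germ V x hx (cst V c) = Curv2.stalkMap k X x c :=
  X.presheaf.germ_res_apply (homOfLE (le_top : V ≤ ⊤)) x hx _

theorem ev_cst {V : X.Opens} {P : Spec (CommRingCat.of k) ⟶ X} (hPs : P ≫ (X ↘ Spec (CommRingCat.of k)) = 𝟙 _)
    (hP : pt P ∈ V) (c : k) : ev P hP (cst V c) = c := by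
  have h2 : (X ↘ Spec (CommRingCat.of k)).appTop ≫ P.appTop = 𝟙 _ := by
    rw [← Scheme.Hom.comp_appTop, hPs]
    rfl
  show (Scheme.ΓSpecIso (CommRingCat.of k)).hom (P.appLE V ⊤ (top_le_preimage hP)
    (X.presheaf.map (homOfLE (le_top : V ≤ ⊤)).op
      ((X ↘ Spec (CommRingCat.of k)).appTop ((Scheme.ΓSpecIso (CommRingCat.of k)).inv c)))) = c
  have h3 : X.presheaf.map (homOfLE (le_top : V ≤ ⊤)).op ≫ P.appLE V ⊤ (top_le_preimage hP) = P.appTop := by
    rw [Scheme.Hom.map_appLE]
    exact Scheme.Hom.appLE_eq_app P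
  rw [← ConcreteCategory.comp_apply (X.presheaf.map _), h3,
    ← ConcreteCategory.comp_apply (X ↘ Spec (CommRingCat.of k)).appTop, h2]
  exact Iso.inv_hom_id_apply (Scheme.ΓSpecIso (CommRingCat.of k)) c

section Coord

variable [IsIntegral X] {L : X.Modules} {V : X.Opens} {e : Γ(L, V)}

/-- The coordinate of a combination of sections. -/
theorem germ_combination {ι : Type*} [Fintype ι] (t : ι → Coh.HH X L 0) (f : ι → Γ(X, V))
    (hf : ∀ i, AModX.res L (le_top : V ≤ ⊤) (Sheaf.H.equiv₀ (Coh.toAb L) isTerminalTop (t i) : Γ(L, ⊤)) = f i • e)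
    (c : ι → k) {x : X} (hx : x ∈ V) :
    L.presheaf.germ ⊤ x trivial (Sheaf.H.equiv₀ (Coh.toAb L) isTerminalTop (∑ i, c i • t i) : Γ(L, ⊤)) =
      X.presheaf.germ V x hx (∑ i, cst V (c i) * f i) • L.presheaf.germ V x hx e := by
  rw [map_sum, map_sum, map_sum, Finset.sum_smul]
  refine Finset.sum_congr rfl fun i _ => ?_
  rw [CurveCohLib.germ_h0Equiv_smul, map_mul, mul_smul, germ_cst]
  refine congrArg (Curv2.stalkMap k X x (c i) • ·) ?_
  rw [← L.presheaf.germ_res_apply (homOfLE (le_top : V ≤ ⊤)) x hx]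
  refine (congrArg (L.presheaf.germ V x hx) (hf i)).trans ?_
  exact QCoh.germ_smul' L hx _ _

/-- A global section whose coordinate is a unit at a point generates there. -/
theorem surjective_homOfClass (he : InvX.IsFrame e) (t : Coh.HH X L 0) {x : X} (hx : x ∈ V)
    {a : X.presheaf.stalk x} (ha : IsUnit a)
    (ht : L.presheaf.germ ⊤ x trivial (Sheaf.H.equiv₀ (Coh.toAb L) isTerminalTop t : Γ(L, ⊤)) =
      a • L.presheaf.germ V x hx e) :
    Function.Surjective ((DerSch.stalkFunctor X x).map (CurveSpecial.homOfClass t)) := by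
  intro v
  obtain ⟨b, hb⟩ := (he.germ_bijective hx).2 v
  obtain ⟨w, hw⟩ := ha
  let one : (DerSch.stalkFunctor X x).obj (Coh.structureModule X) :=
    (Coh.structureModule X).presheaf.germ ⊤ x trivial (H23.Frame.one ⊤)
  refine ⟨(b * ↑w⁻¹ : X.presheaf.stalk x) • one, ?_⟩
  refine (map_smul ((DerSch.stalkFunctor X x).map (CurveSpecial.homOfClass t)).hom _ _).trans ?_
  have h1 : (DerSch.stalkFunctor X x).map (CurveSpecial.homOfClass t) one =
      L.presheaf.germ ⊤ x trivial (Sheaf.H.equiv₀ (Coh.toAb L) isTerminalTop t : Γ(L, ⊤)) := by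
    refine (TopCat.Presheaf.stalkFunctor_map_germ_apply ⊤ x trivial
      ((Scheme.Modules.toPresheaf X).map (CurveSpecial.homOfClass t)) (H23.Frame.one ⊤)).trans ?_
    exact congrArg (L.presheaf.germ ⊤ x trivial) (CurveSpecial.homOfClass_one t)
  refine (congrArg ((b * ↑w⁻¹ : X.presheaf.stalk x) • ·) (h1.trans ht)).trans ?_
  rw [← hw, ← mul_smul, Units.inv_mul_cancel_right]
  exact hb

/-- A section whose coordinate vanishes at all rational points of a non-empty open is zero. -/
theorem eq_zero_of_forall_ev [IsSepClosed k] [Smooth (X ↘ Spec (CommRingCat.of k))] {x : X} (hx : x ∈ V)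
    (hL : PicF.IsInvertible L) (t : Coh.HH X L 0) (g : Γ(X, V))
    (ht : L.presheaf.germ ⊤ x trivial (Sheaf.H.equiv₀ (Coh.toAb L) isTerminalTop t : Γ(L, ⊤)) =
      X.presheaf.germ V x hx g • L.presheaf.germ V x hx e)
    (h : ∀ (P : Spec (CommRingCat.of k) ⟶ X), P ≫ (X ↘ Spec (CommRingCat.of k)) = 𝟙 _ →
      ∀ hP : pt P ∈ V, ev P hP g = 0) : t = 0 := by
  have hg : g = 0 := by
    rw [← basicOpen_eq_bot_iff]
    refine Opens.ext (Set.eq_empty_iff_forall_notMem.2 fun z hz => ?_)
    obtain ⟨P, hPs, hPz⟩ := GrpSchLib.exists_point_of_smooth (X ↘ Spec (CommRingCat.of k)) (X.basicOpen g) hz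
    exact (ev_ne_zero_iff P (X.basicOpen_le g hPz) g).2 hPz (h P hPs _)
  rw [hg, map_zero, zero_smul] at ht
  exact (Sheaf.H.equiv₀ (Coh.toAb L) isTerminalTop).injective
    ((CurveCohLib.Hopf.eq_zero_of_germ_eq_zero hL _ ht).trans (map_zero _).symm)

end Coord

/-- A family of functions with no relation has an invertible matrix of values. -/
theorem exists_det_ne_zero {r : ℕ} {ι : Type*} (v : ι → Fin r → k)
    (h : ∀ c : Fin r → k, (∀ i, ∑ j, v i j * c j = 0) → c = 0) :
    ∃ s : Fin r → ι, (Matrix.of fun a j => v (s a) j).det ≠ 0 := by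
  classical
  have htop : Submodule.span k (Set.range v) = ⊤ := by
    by_contra hne
    obtain ⟨d, hd0, hd⟩ := Submodule.exists_dual_map_eq_bot_of_lt_top (lt_top_iff_ne_top.2 hne)
      (inferInstance : Module.Projective k ((Fin r → k) ⧸ Submodule.span k (Set.range v)))
    refine hd0 ?_
    have hc := h (fun j => d fun a => if j = a then 1 else 0) fun i => by
      have h0 : d (v i) = 0 := by
        have : d (v i) ∈ (Submodule.span k (Set.range v)).map d :=
          Submodule.mem_map_of_mem (Submodule.subset_span (Set.mem_range_self i))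
        rwa [hd, Submodule.mem_bot] at this
      rw [LinearMap.pi_apply_eq_sum_univ] at h0
      exact h0
    refine LinearMap.ext fun x => ?_
    rw [LinearMap.pi_apply_eq_sum_univ]
    refine Finset.sum_eq_zero fun j _ => ?_
    rw [show (d fun a => if j = a then 1 else 0) = 0 from congrFun hc j, smul_zero]
  obtain ⟨w, hw, -, hli⟩ := Submodule.exists_fun_fin_finrank_span_eq k (Set.range v)
  have hr : Module.finrank k (Submodule.span k (Set.range v)) = r := by
    rw [htop, finrank_top, Module.finrank_fin_fun]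
  choose s hs using hw
  refine ⟨fun a => s (Fin.cast hr.symm a), ?_⟩
  refine IsUnit.ne_zero ((Matrix.isUnit_iff_isUnit_det _).1 ?_)
  rw [← Matrix.linearIndependent_rows_iff_isUnit]
  have : (Matrix.of fun a j => v (s (Fin.cast hr.symm a)) j).row = w ∘ Fin.cast hr.symm := by
    funext a
    exact hs _
  rw [this]
  exact hli.comp _ (Fin.cast_injective _)

end Groth.Agent.Jac4
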