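import Groth.Agent.VBCurvesLib.RationalPoint
import Groth.Agent.Lib.CurveTwist
import Groth.Agent.Lib.CurveDuality
import Groth.Agent.CurveBC.Main
import Groth.Agent.Triage.SchDense
import Groth.Agent.MorLib.ReducedKer

/-!
The ideal of a rational point of a smooth proper curve over an arbitrary field, and twisting by it.
-/

set_option linter.style.haveILetI false
set_option linter.unusedSectionVars false
set_option backward.isDefEq.respectTransparency false
set_option backward.isDefEq.respectTransparency.types false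
set_option synthInstance.maxHeartbeats 100000
set_option maxHeartbeats 1000000

universe u

open CategoryTheory CategoryTheory.Limits AlgebraicGeometry TopologicalSpace Opposite
open Groth.Agent.PnCoh.Finite (mapLin)

namespace Groth.Agent.Jac4

open Groth.Agent.CurveBundle Groth.Agent.CurveSlope Groth.Agent.CurveStable Groth.Agent.CurvePoint

variable {X : Scheme.{u}}

/-- A map killed by an epimorphism onto a module with non-zero stalk is not onto at that stalk. -/
theorem not_surjective_of_comp_zero {A B Q : X.Modules} (f : A ⟶ B) (g : B ⟶ Q) (w : f ≫ g = 0)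
    [Epi g] (x : X) (hQ : ¬ Subsingleton (Q.presheaf.stalk x)) :
    ¬ Function.Surjective ((DerSch.stalkFunctor X x).map f) := by
  intro hs
  refine hQ (subsingleton_of_forall_eq 0 fun q => ?_)
  obtain ⟨b, hb⟩ := (ModuleCat.epi_iff_surjective ((DerSch.stalkFunctor X x).map g)).1 inferInstance q
  obtain ⟨a, rfl⟩ := hs b
  rw [← hb]
  show ((DerSch.stalkFunctor X x).map f ≫ (DerSch.stalkFunctor X x).map g) a = 0
  rw [← Functor.map_comp, w, Functor.map_zero]
  rfl

/-- If a composite is onto at a stalk and the second map is mono, the first is onto. -/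
theorem surjective_left_of_comp {A B C : X.Modules} (f : A ⟶ B) (g : B ⟶ C) [Mono g] (x : X)
    (h : Function.Surjective ((DerSch.stalkFunctor X x).map (f ≫ g))) :
    Function.Surjective ((DerSch.stalkFunctor X x).map f) := fun b => by
  obtain ⟨a, ha⟩ := h ((DerSch.stalkFunctor X x).map g b)
  refine ⟨a, (ModuleCat.mono_iff_injective ((DerSch.stalkFunctor X x).map g)).1 inferInstance ?_⟩
  rw [← ha, Functor.map_comp]
  rfl

/-- If a composite is onto at a stalk, so is the second map. -/
theorem surjective_right_of_comp {A B C : X.Modules} (f : A ⟶ B) (g : B ⟶ C) (x : X)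
    (h : Function.Surjective ((DerSch.stalkFunctor X x).map (f ≫ g))) :
    Function.Surjective ((DerSch.stalkFunctor X x).map g) := fun c => by
  obtain ⟨a, ha⟩ := h c
  refine ⟨(DerSch.stalkFunctor X x).map f a, ?_⟩
  rw [← ha, Functor.map_comp]
  rfl

variable {k : Type u} [Field k] [X.Over (Spec (CommRingCat.of k))]

/-- The point of a section of the structure map. -/
noncomputable abbrev pt (σ : Spec (CommRingCat.of k) ⟶ X) : X := σ.base (IsLocalRing.closedPoint k)

omit [X.Over (Spec (CommRingCat.of k))] in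
theorem range_section (σ : Spec (CommRingCat.of k) ⟶ X) : Set.range σ.base = {pt σ} := by
  haveI : Subsingleton ↥(Spec (CommRingCat.of k)) := inferInstanceAs (Subsingleton (PrimeSpectrum k))
  ext x
  constructor
  · rintro ⟨p, rfl⟩
    rw [Subsingleton.elim p (IsLocalRing.closedPoint k)]
    exact Set.mem_singleton _
  · rintro rfl
    exact Set.mem_range_self _

theorem isClosed_pt [IsSeparated (X ↘ Spec (CommRingCat.of k))] {σ : Spec (CommRingCat.of k) ⟶ X}
    (hσ : σ ≫ (X ↘ Spec (CommRingCat.of k)) = 𝟙 _) : IsClosed ({pt σ} : Set X) := by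
  haveI : IsClosedImmersion (σ ≫ (X ↘ Spec (CommRingCat.of k))) := hσ ▸ inferInstance
  haveI : IsClosedImmersion σ := IsClosedImmersion.of_comp σ (X ↘ Spec (CommRingCat.of k))
  rw [← range_section σ]
  exact σ.isClosedEmbedding.isClosed_range

/-- The ideal of a rational point is the reduced ideal of its point. -/
theorem ker_eq_ptIdeal [IsSeparated (X ↘ Spec (CommRingCat.of k))] {σ : Spec (CommRingCat.of k) ⟶ X}
    (hσ : σ ≫ (X ↘ Spec (CommRingCat.of k)) = 𝟙 _) : σ.ker = ptIdeal (pt σ) (isClosed_pt hσ) := by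
  haveI : IsClosedImmersion (σ ≫ (X ↘ Spec (CommRingCat.of k))) := hσ ▸ inferInstance
  haveI : IsClosedImmersion σ := IsClosedImmersion.of_comp σ (X ↘ Spec (CommRingCat.of k))
  refine le_antisymm ?_ ?_
  · refine Scheme.IdealSheafData.le_support_iff_le_vanishingIdeal.1 fun x hx => ?_
    rw [← SetLike.mem_coe, MorLib.support_ker_eq_closure_range_of_isReduced, range_section σ]
    exact subset_closure hx
  · refine le_trans (Scheme.IdealSheafData.vanishingIdeal_antimono ?_)
      (Triage.SchDense.vanishingIdeal_le_ker σ)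
    exact closure_minimal (range_section σ).le (isClosed_pt hσ)

variable (k)
variable [IsIntegral X] [IsProper (X ↘ Spec (CommRingCat.of k))] [Smooth (X ↘ Spec (CommRingCat.of k))]

/-- `χ(𝒪) = 1 - g` for a geometrically connected curve. -/
theorem euler_structureModule [GeometricallyConnected (X ↘ Spec (CommRingCat.of k))]
    (hdim : topologicalKrullDim X ≤ 1) :
    Curv2.euler k X (Coh.structureModule X) = 1 - Curv2.genus k X := by
  rw [CurveRR.euler_eq_h0_sub_h1 k hdim QCoh.isQCoh_structureModule,
    CurveBC.finrank_h0_of_geometricallyConnected k X]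
  unfold Curv2.genus
  push_cast
  ring

/-- Riemann–Roch for an invertible module. -/
theorem h0_sub_h1 [GeometricallyConnected (X ↘ Spec (CommRingCat.of k))]
    (hdim : topologicalKrullDim X = 1) {L : X.Modules} (hL : PicF.IsInvertible L) :
    (Module.finrank k (Coh.HH X L 0) : ℤ) - Module.finrank k (Coh.HH X L 1) =
      Curv2.deg k X L 1 + 1 - Curv2.genus k X := by
  haveI := CurveCohLib.isNoetherian_of_proper (k := k) (X := X)
  rw [← CurveRR.euler_eq_h0_sub_h1 k hdim.le (CurveDeg.isCoh_of_isInvertible hL).1]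
  unfold Curv2.deg
  rw [euler_structureModule k hdim.le]
  push_cast
  ring

section Point

variable {p : X} (hp : IsClosed ({p} : Set X))

theorem deg_ptMod_rational (hres : Function.Surjective (Curv2.resMap k X p)) :
    Curv2.deg k X (ptMod p hp) 1 = -1 := by
  haveI := CurveCohLib.isNoetherian_of_proper (k := k) (X := X)
  have h := euler_add' k _ _ _ (shortExact_pt p hp) (isCoh_ptMod p hp k)
    QCoh.isCoh_structureModule' (isCoh_quot p hp k)
  rw [VBCurvesLib.euler_quot_rational k p hp hres] at h
  unfold Curv2.deg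
  push_cast
  linarith

include hp in
theorem finrank_quot_twist (hres : Function.Surjective (Curv2.resMap k X p)) {G : X.Modules}
    (hG : FlatMod.IsFinLocFreeOfRank 1 G) :
    Module.finrank k (Coh.HH X ((DCoh.tensorBi.obj G).obj (ClSub.quotMod (ptIdeal p hp))) 0) = 1 := by
  haveI := CurveCohLib.isNoetherian_of_proper (k := k) (X := X)
  have hQc := CurveTensor.isCoh_tensor (isFinLocFree_of_rank hG) (isCoh_quot p hp k)
  have hsupp := (CurveTensor.support_tensor_subset (E := G)).trans (support_quot_subset p hp)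
  have h1 := CurveTensor.euler_tensor_torsion k hG (isCoh_quot p hp k) (closed_support p hp)
  rw [VBCurvesLib.euler_quot_rational k p hp hres, CurveCohLib.euler_eq_finrank_zero hQc
    (fun x hx => Set.mem_singleton_iff.1 (hsupp hx) ▸ hp)] at h1
  omega

include hp in
theorem not_subsingleton_quot_twist (hres : Function.Surjective (Curv2.resMap k X p)) {G : X.Modules}
    (hG : FlatMod.IsFinLocFreeOfRank 1 G) :
    ¬ Subsingleton (((DCoh.tensorBi.obj G).obj (ClSub.quotMod (ptIdeal p hp))).presheaf.stalk p) := by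
  haveI := CurveCohLib.isNoetherian_of_proper (k := k) (X := X)
  intro hs
  have hQc := CurveTensor.isCoh_tensor (isFinLocFree_of_rank hG) (isCoh_quot p hp k)
  have hsupp := (CurveTensor.support_tensor_subset (E := G)).trans (support_quot_subset p hp)
  obtain ⟨e, -⟩ := CurveCohLib.exists_h0Equiv (k := k) hQc
    (fun x hx => Set.mem_singleton_iff.1 (hsupp hx) ▸ hp) {p} (by simpa using hsupp)
  have h1 := finrank_quot_twist k hp hres hG
  haveI : ∀ x : ({p} : Finset X),
      Subsingleton (((DCoh.tensorBi.obj G).obj (ClSub.quotMod (ptIdeal p hp))).presheaf.stalk x) := by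
    rintro ⟨x, hx⟩
    obtain rfl := Finset.mem_singleton.1 hx
    exact hs
  haveI := e.toEquiv.subsingleton
  rw [Module.finrank_zero_of_subsingleton] at h1
  omega

/-- Twisting down by a point, as a map. -/
noncomputable def twistι (G : X.Modules) : (DCoh.tensorBi.obj G).obj (ptMod p hp) ⟶ G :=
  (DCoh.tensorBi.obj G).map (ClSub.idealModι (ptIdeal p hp)) ≫ (KFlatLib.tensorUnitIso G).hom

/-- Evaluation at the point. -/
noncomputable def twistπ (G : X.Modules) :
    G ⟶ (DCoh.tensorBi.obj G).obj (ClSub.quotMod (ptIdeal p hp)) :=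
  (KFlatLib.tensorUnitIso G).inv ≫ (DCoh.tensorBi.obj G).map (ClSub.toSubscheme (ptIdeal p hp))

omit [IsIntegral X] [IsProper (X ↘ Spec (CommRingCat.of k))] [Smooth (X ↘ Spec (CommRingCat.of k))]
  [X.Over (Spec (CommRingCat.of k))] in
theorem twistι_π (G : X.Modules) : twistι hp G ≫ twistπ hp G = 0 := by
  unfold twistι twistπ
  rw [Category.assoc, Iso.hom_inv_id_assoc, ← Functor.map_comp, ClSub.idealModι,
    kernel.condition, Functor.map_zero]

omit [IsProper (X ↘ Spec (CommRingCat.of k))] [Smooth (X ↘ Spec (CommRingCat.of k))]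
  [X.Over (Spec (CommRingCat.of k))] in
theorem shortExact_twist {G : X.Modules} (hG : FlatMod.IsFinLocFree G) :
    (ShortComplex.mk (twistι hp G) (twistπ hp G) (twistι_π hp G)).ShortExact :=
  ShortComplex.shortExact_of_iso
    (S₁ := ShortComplex.mk ((DCoh.tensorBi.obj G).map (ClSub.idealModι (ptIdeal p hp)))
      ((DCoh.tensorBi.obj G).map (ClSub.toSubscheme (ptIdeal p hp)))
      (by rw [← Functor.map_comp, ClSub.idealModι, kernel.condition, Functor.map_zero]))
    (ShortComplex.isoMk (Iso.refl _) (KFlatLib.tensorUnitIso G) (Iso.refl _)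
      (by simp [twistι]) (by simp [twistπ]))
    (CurveTensor.shortExact_tensor hG _ _ _ (shortExact_pt p hp))

include k in
theorem twistι_ne_zero (hdim : topologicalKrullDim X = 1) {G : X.Modules} (hG : PicF.IsInvertible G) :
    twistι hp G ≠ 0 := by
  intro h
  haveI := CurveCohLib.isNoetherian_of_proper (k := k) (X := X)
  haveI : Mono (twistι hp G) :=
    (shortExact_twist hp (isFinLocFree_of_rank (InvEnd.isFinLocFreeOfRank_one hG))).mono_f
  refine CurveEnd.not_isZero _ 1 one_pos (InvEnd.isFinLocFreeOfRank_one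
    (InvX.isInvertible_tensorMod hG (isInvertible_ptMod p hp k hdim))) ?_
  refine (IsZero.iff_id_eq_zero _).2 ?_
  rw [← cancel_mono (twistι hp G), h, comp_zero, comp_zero]

theorem not_surjective_twistι (hres : Function.Surjective (Curv2.resMap k X p)) {G : X.Modules}
    (hG : FlatMod.IsFinLocFreeOfRank 1 G) :
    ¬ Function.Surjective ((DerSch.stalkFunctor X p).map (twistι hp G)) := by
  haveI : Epi (twistπ hp G) := (shortExact_twist hp (isFinLocFree_of_rank hG)).epi_g
  exact not_surjective_of_comp_zero _ _ (twistι_π hp G) p (not_subsingleton_quot_twist k hp hres hG)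

omit [IsIntegral X] [Smooth (X ↘ Spec (CommRingCat.of k))] in
include hp in
/-- The count of sections in a twist, for an abstract evaluation sequence. -/
theorem finrank_of_eval' {S : ShortComplex X.Modules}
    (hT : S.ShortExact) (hB : Coh.IsCoh S.X₂) (hC : Coh.IsCoh S.X₃)
    (hsupp : CohB1.support S.X₃ ⊆ {p})
    (hkill : ∀ a ∈ IsLocalRing.maximalIdeal (X.presheaf.stalk p), ∀ q : S.X₃.presheaf.stalk p, a • q = 0)
    (hr : Module.finrank k (Coh.HH X S.X₃ 0) = 1) :
    Module.finrank k (Coh.HH X S.X₁ 0) ≤ Module.finrank k (Coh.HH X S.X₂ 0) ∧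
    Module.finrank k (Coh.HH X S.X₂ 0) ≤ Module.finrank k (Coh.HH X S.X₁ 0) + 1 ∧
      ((∀ v : S.X₂.presheaf.stalk p, ∃ t : Coh.HH X S.X₂ 0,
          v - S.X₂.presheaf.germ ⊤ p trivial (Sheaf.H.equiv₀ (Coh.toAb S.X₂) isTerminalTop t : Γ(S.X₂, ⊤)) ∈
            IsLocalRing.maximalIdeal (X.presheaf.stalk p) •
              (⊤ : Submodule (X.presheaf.stalk p) (S.X₂.presheaf.stalk p))) →
        Module.finrank k (Coh.HH X S.X₁ 0) + 1 = Module.finrank k (Coh.HH X S.X₂ 0)) := by
  classical
  haveI := CurveCohLib.isNoetherian_of_proper (k := k) (X := X)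
  haveI := S0002.result k X S.X₂ hB 0
  haveI := S0002.result k X S.X₃ hC 0
  have hcl : ∀ x ∈ CohB1.support S.X₃, IsClosed ({x} : Set X) := fun x hx =>
    Set.mem_singleton_iff.1 (hsupp hx) ▸ hp
  have hker : LinearMap.ker (mapLin k S.g 0) = LinearMap.range (mapLin k S.f 0) :=
    CurveCohLib.ker_mapLin_g k hT 0
  have hinj : Function.Injective (mapLin k S.f 0) := CurveCohLib.mapLin_f_zero_injective k hT
  have hsum := LinearMap.finrank_range_add_finrank_ker (mapLin k S.g 0)
  rw [hker, LinearMap.finrank_range_of_inj hinj] at hsum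
  have hle : Module.finrank k (LinearMap.range (mapLin k S.g 0)) ≤ 1 :=
    (Submodule.finrank_le _).trans hr.le
  refine ⟨by omega, by omega, fun hgen => ?_⟩
  obtain ⟨e, he⟩ := CurveCohLib.exists_h0Equiv (k := k) hC hcl {p} (by simpa using hsupp)
  have hsurj : Function.Surjective (mapLin k S.g 0) := fun y => by
    let F := DerSch.stalkFunctor X p
    haveI : Epi (F.map S.g) := by
      haveI : Epi S.g := hT.epi_g
      infer_instance
    obtain ⟨(v : S.X₂.presheaf.stalk p), hv⟩ := (ModuleCat.epi_iff_surjective (F.map S.g)).1 inferInstance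
      (show F.obj S.X₃ from e y ⟨p, Finset.mem_singleton_self p⟩)
    obtain ⟨t, ht⟩ := hgen v
    refine ⟨t, e.injective (funext fun x => ?_)⟩
    obtain ⟨x, hx⟩ := x
    obtain rfl : p = x := (Finset.mem_singleton.1 hx).symm
    rw [he]
    refine Eq.trans ?_ hv
    have h2 : F.map S.g (v - S.X₂.presheaf.germ ⊤ p trivial
        (Sheaf.H.equiv₀ (Coh.toAb S.X₂) isTerminalTop t : Γ(S.X₂, ⊤))) = 0 := by
      refine Submodule.smul_induction_on ht (fun a ha m _ => ?_) fun a b ha hb => ?_
      · exact (map_smul (F.map S.g).hom a m).trans (hkill a ha _)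
      · exact (map_add (F.map S.g).hom a b).trans ((congrArg₂ (· + ·) ha hb).trans (add_zero _))
    rw [map_sub, sub_eq_zero] at h2
    refine Eq.trans ?_ h2.symm
    refine Eq.trans ?_ (TopCat.Presheaf.stalkFunctor_map_germ_apply ⊤ p trivial
      ((Scheme.Modules.toPresheaf X).map S.g) _).symm
    refine congrArg (S.X₃.presheaf.germ ⊤ p trivial) ?_
    exact (Sheaf.H.equiv₀_naturality isTerminalTop ((QCoh.toAbFunctor X).map S.g) t).symm
  rw [LinearMap.range_eq_top.2 hsurj, finrank_top, hr] at hsum
  omega

/-- The effect of twisting down by a rational point. -/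
theorem twist_bounds (hdim : topologicalKrullDim X = 1)
    (hres : Function.Surjective (Curv2.resMap k X p)) {G : X.Modules} (hG : PicF.IsInvertible G) :
    Function.Surjective (mapLin k (twistι hp G) 1) ∧
    Module.finrank k (Coh.HH X ((DCoh.tensorBi.obj G).obj (ptMod p hp)) 0) ≤
      Module.finrank k (Coh.HH X G 0) ∧
    Module.finrank k (Coh.HH X G 0) ≤
      Module.finrank k (Coh.HH X ((DCoh.tensorBi.obj G).obj (ptMod p hp)) 0) + 1 ∧
    Curv2.deg k X ((DCoh.tensorBi.obj G).obj (ptMod p hp)) 1 = Curv2.deg k X G 1 - 1 ∧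
    ((∀ v : G.presheaf.stalk p, ∃ t : Coh.HH X G 0,
        v - G.presheaf.germ ⊤ p trivial (Sheaf.H.equiv₀ (Coh.toAb G) isTerminalTop t : Γ(G, ⊤)) ∈
          IsLocalRing.maximalIdeal (X.presheaf.stalk p) •
            (⊤ : Submodule (X.presheaf.stalk p) (G.presheaf.stalk p))) →
      Module.finrank k (Coh.HH X ((DCoh.tensorBi.obj G).obj (ptMod p hp)) 0) + 1 =
        Module.finrank k (Coh.HH X G 0)) := by
  haveI := CurveCohLib.isNoetherian_of_proper (k := k) (X := X)
  have hG1 := InvEnd.isFinLocFreeOfRank_one hG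
  have hI := isInvertible_ptMod p hp k hdim
  have hd := CurveRR.deg_tensor k hdim hG hI
  rw [deg_ptMod_rational k hp hres] at hd
  have h := finrank_of_eval' k hp
    (S := ShortComplex.mk (twistι hp G) (twistπ hp G) (twistι_π hp G))
    (shortExact_twist hp (isFinLocFree_of_rank hG1)) (coh_of_free k (isFinLocFree_of_rank hG1))
    (CurveTensor.isCoh_tensor (isFinLocFree_of_rank hG1) (isCoh_quot p hp k))
    ((CurveTensor.support_tensor_subset (E := G)).trans (support_quot_subset p hp))
    (fun a ha q => smul_tensor_eq_zero p hp ha q) (finrank_quot_twist k hp hres hG1)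
  exact ⟨CurveSpecial.surjective_mapLin_one k hdim (InvX.isInvertible_tensorMod hG hI) hG _
    (twistι_ne_zero k hp hdim hG), h.1, h.2.1, by omega, h.2.2⟩

end Point

include k in
/-- A non-zero map of invertible modules is onto outside a finite set of closed points. -/
theorem exists_finite_surjective (hdim : topologicalKrullDim X = 1) {L M : X.Modules}
    (hL : PicF.IsInvertible L) (hM : PicF.IsInvertible M) (φ : L ⟶ M) (hφ : φ ≠ 0) :
    ∃ Z : Set X, Z.Finite ∧ (∀ x ∈ Z, IsClosed ({x} : Set X)) ∧
      ∀ x ∉ Z, Function.Surjective ((DerSch.stalkFunctor X x).map φ) := by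
  haveI := CurveCohLib.isNoetherian_of_proper (k := k) (X := X)
  have hL1 := InvEnd.isFinLocFreeOfRank_one hL
  have hM1 := InvEnd.isFinLocFreeOfRank_one hM
  have hMc := coh_of_free k (isFinLocFree_of_rank hM1)
  have hLc := coh_of_free k (isFinLocFree_of_rank hL1)
  haveI := InvEnd.mono_of_ne_zero hL hM φ hφ
  have hTc : Coh.IsCoh (cokernel φ) := QCoh.isCoh_cokernel hLc.1 hMc φ
  have hT0 : rk (cokernel φ) = 0 := by
    have := rk_add_coh k _ _ _ (shortExact_cokernel_of_mono φ) hMc
    rw [rk_eq hL1, rk_eq hM1] at this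
    omega
  have hTcl : ∀ x ∈ CohB1.support (cokernel φ), IsClosed ({x} : Set X) := fun x hx => by
    by_contra hxc
    obtain rfl := CurveCohLib.eq_genericPoint_of_not_isClosed hdim hxc
    letI := (isField_stalk_generic (X := X)).toField
    haveI := finite_stalk_of_coh hTc (genericPoint X)
    exact hx (Module.finrank_zero_iff.1 hT0)
  refine ⟨CohB1.support (cokernel φ),
    CurveCohLib.finite_of_closedPoints (QCoh.isClosed_support_of_isFT hTc.1 hTc.2) hTcl, hTcl, fun x hx => ?_⟩
  haveI : Subsingleton ((DerSch.stalkFunctor X x).obj (cokernel φ)) := not_not.1 hx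
  haveI : Epi ((DerSch.stalkFunctor X x).map φ) := Preadditive.epi_of_isZero_cokernel _
    ((ModuleCat.isZero_of_subsingleton ((DerSch.stalkFunctor X x).obj (cokernel φ))).of_iso
      (PreservesCokernel.iso (DerSch.stalkFunctor X x) φ).symm)
  exact (ModuleCat.epi_iff_surjective _).1 inferInstance

end Groth.Agent.Jac4
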