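import Groth.Agent.Jac4.RatPoint
import Groth.Agent.SurfInt.Basic

/-!
Maps vanishing at a given tuple of rational points.
-/

set_option linter.style.haveILetI false
set_option linter.unusedSectionVars false
set_option backward.isDefEq.respectTransparency false
set_option backward.isDefEq.respectTransparency.types false
set_option synthInstance.maxHeartbeats 100000
set_option maxHeartbeats 1000000

universe u

open CategoryTheory CategoryTheory.Limits AlgebraicGeometry TopologicalSpace Opposite
open Groth.Agent.PnCoh.Finite (mapLin)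

namespace Groth.Agent.Jac4

open Groth.Agent.CurveBundle Groth.Agent.CurveSlope Groth.Agent.CurveStable Groth.Agent.CurvePoint

variable {X : Scheme.{u}}

/-- Tensoring with an invertible module reflects surjectivity at a stalk. -/
theorem surjective_of_tensor_surjective {E A B : X.Modules} (hE : FlatMod.IsFinLocFreeOfRank 1 E)
    (f : A ⟶ B) [Mono f] (x : X)
    (h : Function.Surjective ((DerSch.stalkFunctor X x).map ((DCoh.tensorBi.obj E).map f))) :
    Function.Surjective ((DerSch.stalkFunctor X x).map f) := by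
  let π := cokernel.π f
  haveI : Epi ((DCoh.tensorBi.obj E).map π) :=
    (CurveTensor.shortExact_tensor (isFinLocFree_of_rank hE) _ _ _ (shortExact_cokernel_of_mono f)).epi_g
  have hs : Subsingleton (((DCoh.tensorBi.obj E).obj (cokernel f)).presheaf.stalk x) := by
    by_contra hn
    exact not_surjective_of_comp_zero _ ((DCoh.tensorBi.obj E).map π)
      (by rw [← Functor.map_comp, cokernel.condition, Functor.map_zero]) x hn h
  obtain ⟨b⟩ := CurveTensor.exists_basis_stalk hE x
  let e := (KFlatLib.stalkTensorIso x E (cokernel f)).toLinearEquiv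
  haveI hq : Subsingleton ((cokernel f).presheaf.stalk x) := by
    refine subsingleton_of_forall_eq 0 fun q => ?_
    haveI := hs
    have h0 : (b 0) ⊗ₜ[X.presheaf.stalk x] q =
        (0 : TensorProduct (X.presheaf.stalk x) (E.presheaf.stalk x) ((cokernel f).presheaf.stalk x)) :=
      e.injective (@Subsingleton.elim _ hs _ _)
    have h1 := congrArg (fun t => TensorProduct.lid (X.presheaf.stalk x) _
      (TensorProduct.map (b.coord 0) LinearMap.id t)) h0
    simpa using h1
  haveI : Subsingleton ((DerSch.stalkFunctor X x).obj (cokernel f)) := hq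
  haveI : Epi ((DerSch.stalkFunctor X x).map f) := Preadditive.epi_of_isZero_cokernel _
    ((ModuleCat.isZero_of_subsingleton ((DerSch.stalkFunctor X x).obj (cokernel f))).of_iso
      (PreservesCokernel.iso (DerSch.stalkFunctor X x) f).symm)
  exact (ModuleCat.epi_iff_surjective _).1 inferInstance

variable (k : Type u) [Field k] [X.Over (Spec (CommRingCat.of k))] [IsIntegral X]
  [IsProper (X ↘ Spec (CommRingCat.of k))] [Smooth (X ↘ Spec (CommRingCat.of k))]

theorem isInvertible_idealMod (hdim : topologicalKrullDim X = 1) {σ : Spec (CommRingCat.of k) ⟶ X}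
    (hσ : σ ≫ (X ↘ Spec (CommRingCat.of k)) = 𝟙 _) : PicF.IsInvertible (ClSub.idealMod σ.ker) := by
  rw [ker_eq_ptIdeal hσ]
  exact isInvertible_ptMod _ _ k hdim

theorem deg_idealMod {σ : Spec (CommRingCat.of k) ⟶ X}
    (hσ : σ ≫ (X ↘ Spec (CommRingCat.of k)) = 𝟙 _) :
    Curv2.deg k X (ClSub.idealMod σ.ker) 1 = -1 := by
  rw [ker_eq_ptIdeal hσ]
  exact deg_ptMod_rational k _ (VBCurvesLib.surjective_resMap_of_section k σ hσ)

/-- The ideals of finitely many rational points: their product maps to the structure sheaf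
without being onto at any of them. -/
theorem exists_vanishing (hdim : topologicalKrullDim X = 1) :
    ∀ l : List (Spec (CommRingCat.of k) ⟶ X), (∀ σ ∈ l, σ ≫ (X ↘ Spec (CommRingCat.of k)) = 𝟙 _) →
      PicF.IsInvertible (FGA.tensorList (l.map fun σ => ClSub.idealMod σ.ker)) ∧
      Curv2.deg k X (FGA.tensorList (l.map fun σ => ClSub.idealMod σ.ker)) 1 = -(l.length : ℤ) ∧
      ∃ j : FGA.tensorList (l.map fun σ => ClSub.idealMod σ.ker) ⟶ Coh.structureModule X, j ≠ 0 ∧
        ∀ σ ∈ l, ¬ Function.Surjective ((DerSch.stalkFunctor X (pt σ)).map j) := by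
  haveI := CurveCohLib.isNoetherian_of_proper (k := k) (X := X)
  intro l
  induction l with
  | nil =>
    intro _
    refine ⟨CurveDeg.isInvertible_structureModule, (CurveDeg.deg_structureModule k).trans (by simp),
      𝟙 _, ?_, fun σ hσ => absurd hσ List.not_mem_nil⟩
    intro h
    exact CurveEnd.not_isZero _ 1 one_pos
      (InvEnd.isFinLocFreeOfRank_one (CurveDeg.isInvertible_structureModule (X := X)))
      ((IsZero.iff_id_eq_zero _).2 h)
  | cons σ l ih =>
    intro hall
    have hσ := hall σ List.mem_cons_self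
    obtain ⟨hT, hdT, j', hj', hv⟩ := ih fun τ hτ => hall τ (List.mem_cons_of_mem _ hτ)
    have hI := isInvertible_idealMod k hdim hσ
    have hI1 := InvEnd.isFinLocFreeOfRank_one hI
    haveI : Mono j' := InvEnd.mono_of_ne_zero hT CurveDeg.isInvertible_structureModule j' hj'
    haveI : Mono ((DCoh.tensorBi.obj (ClSub.idealMod σ.ker)).map j') :=
      (CurveTensor.shortExact_tensor (isFinLocFree_of_rank hI1) _ _ _ (shortExact_cokernel_of_mono j')).mono_f
    haveI : Mono (ClSub.idealModι σ.ker) := by
      rw [ker_eq_ptIdeal hσ]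
      exact (shortExact_pt _ _).mono_f
    have hpt : ¬ Function.Surjective
        ((DerSch.stalkFunctor X (pt σ)).map (ClSub.idealModι σ.ker)) := by
      rw [ker_eq_ptIdeal hσ]
      haveI := epi_toSubscheme (ptIdeal (pt σ) (isClosed_pt hσ))
      exact not_surjective_of_comp_zero _ (ClSub.toSubscheme _) (kernel.condition _) _
        (not_subsingleton_stalk _ _)
    let u : (DCoh.tensorBi.obj (ClSub.idealMod σ.ker)).obj
        (FGA.tensorList (l.map fun τ => ClSub.idealMod τ.ker)) ⟶ ClSub.idealMod σ.ker :=
      (DCoh.tensorBi.obj (ClSub.idealMod σ.ker)).map j' ≫ (KFlatLib.tensorUnitIso _).hom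
    have hinv : PicF.IsInvertible (FGA.tensorList ((σ :: l).map fun τ => ClSub.idealMod τ.ker)) :=
      InvX.isInvertible_tensorMod hI hT
    refine ⟨hinv, ?_, u ≫ ClSub.idealModι σ.ker, ?_, fun τ hτ => ?_⟩
    · refine (CurveRR.deg_tensor k hdim hI hT).trans ?_
      rw [deg_idealMod k hσ, hdT]
      simp [List.length_cons]
    · intro h0
      refine CurveEnd.not_isZero _ 1 one_pos (InvEnd.isFinLocFreeOfRank_one hinv) ?_
      haveI : Mono (u ≫ ClSub.idealModι σ.ker) := by
        dsimp only [u]
        infer_instance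
      refine (IsZero.iff_id_eq_zero _).2 ?_
      exact (cancel_mono (u ≫ ClSub.idealModι σ.ker)).1 (by rw [h0, comp_zero, comp_zero])
    · intro hs
      rcases List.mem_cons.1 hτ with rfl | hτ'
      · exact hpt (surjective_right_of_comp _ _ _ hs)
      · have h1 := surjective_left_of_comp u (ClSub.idealModι σ.ker) _ hs
        exact hv τ hτ' (surjective_of_tensor_surjective hI1 j' _
          (surjective_left_of_comp _ (KFlatLib.tensorUnitIso _).hom _ h1))

/-- With an inverse of such a product, a non-zero section vanishing at all the points. -/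
theorem exists_section (hdim : topologicalKrullDim X = 1) (l : List (Spec (CommRingCat.of k) ⟶ X))
    (hl : ∀ σ ∈ l, σ ≫ (X ↘ Spec (CommRingCat.of k)) = 𝟙 _) {M : X.Modules} (hM : PicF.IsInvertible M)
    (e : CohB1.tensorMod M (FGA.tensorList (l.map fun σ => ClSub.idealMod σ.ker)) ≅ Coh.structureModule X) :
    Curv2.deg k X M 1 = l.length ∧
      ∃ i : Coh.structureModule X ⟶ M, i ≠ 0 ∧
        ∀ σ ∈ l, ¬ Function.Surjective ((DerSch.stalkFunctor X (pt σ)).map i) := by
  haveI := CurveCohLib.isNoetherian_of_proper (k := k) (X := X)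
  obtain ⟨hT, hdT, j, hj, hv⟩ := exists_vanishing k hdim l hl
  have hM1 := InvEnd.isFinLocFreeOfRank_one hM
  have hd : Curv2.deg k X (CohB1.tensorMod M (FGA.tensorList (l.map fun σ => ClSub.idealMod σ.ker))) 1 =
      _ := CurveRR.deg_tensor k hdim hM hT
  rw [CurveRR.deg_congr k e 1, CurveDeg.deg_structureModule, hdT] at hd
  haveI : Mono j := InvEnd.mono_of_ne_zero hT CurveDeg.isInvertible_structureModule j hj
  haveI : Mono ((DCoh.tensorBi.obj M).map j) :=
    (CurveTensor.shortExact_tensor (isFinLocFree_of_rank hM1) _ _ _ (shortExact_cokernel_of_mono j)).mono_f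
  let w : (DCoh.tensorBi.obj M).obj (FGA.tensorList (l.map fun σ => ClSub.idealMod σ.ker)) ⟶ M :=
    (DCoh.tensorBi.obj M).map j ≫ (KFlatLib.tensorUnitIso M).hom
  refine ⟨by omega, e.inv ≫ w, fun h0 => ?_, fun σ hσ hs => ?_⟩
  · refine CurveEnd.not_isZero (Coh.structureModule X) 1 one_pos
      (InvEnd.isFinLocFreeOfRank_one (CurveDeg.isInvertible_structureModule (X := X))) ?_
    haveI : Mono (e.inv ≫ w) := by
      dsimp only [w]
      infer_instance
    refine (IsZero.iff_id_eq_zero _).2 ?_
    exact (cancel_mono (e.inv ≫ w)).1 (by rw [h0, comp_zero, comp_zero])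
  · exact hv σ hσ (surjective_of_tensor_surjective hM1 j _
      (surjective_left_of_comp _ (KFlatLib.tensorUnitIso M).hom _ (surjective_right_of_comp e.inv w _ hs)))

end Groth.Agent.Jac4
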